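import Cfsg.Agent.Lib.GL.Simple
import Cfsg.Agent.Lib.Components.Layer

/-!
`blk A c`: the block diagonal matrix `diag(A, c)`; `SL_m` as a quasisimple subgroup of `SL_{m+1}` and `GL_{m+1}`,
and the centraliser of `diag(-1, ..., -1, 1)`.
-/

set_option autoImplicit false

namespace Cfsg.Agent.DiagBlock

open Matrix Subgroup
open scoped MatrixGroups commutatorElement

variable {F : Type*} [Field F] {m : ℕ}

/-- `diag(A, c)` -/
def blk (A : Matrix (Fin m) (Fin m) F) (c : F) : Matrix (Fin (m + 1)) (Fin (m + 1)) F :=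
  reindex finSumFinEquiv finSumFinEquiv (fromBlocks A 0 0 (c • (1 : Matrix (Fin 1) (Fin 1) F)))

theorem blk_mul (A B : Matrix (Fin m) (Fin m) F) (c d : F) :
    blk (A * B) (c * d) = blk A c * blk B d := by
  rw [mul_comm c d]
  simp [blk, fromBlocks_multiply, smul_smul]

theorem blk_one : blk (1 : Matrix (Fin m) (Fin m) F) 1 = 1 := by
  simp [blk, fromBlocks_one]

theorem blk_castSucc (A : Matrix (Fin m) (Fin m) F) (c : F) (a b : Fin m) :
    blk A c a.castSucc b.castSucc = A a b := by
  simp [blk]

theorem blk_last (A : Matrix (Fin m) (Fin m) F) (c : F) :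
    blk A c (Fin.last m) (Fin.last m) = c := by
  simp [blk, show Fin.last m = Fin.natAdd m (0 : Fin 1) from rfl]

theorem blk_castSucc_last (A : Matrix (Fin m) (Fin m) F) (c : F) (a : Fin m) :
    blk A c a.castSucc (Fin.last m) = 0 := by
  simp [blk, show Fin.last m = Fin.natAdd m (0 : Fin 1) from rfl]

theorem blk_last_castSucc (A : Matrix (Fin m) (Fin m) F) (c : F) (a : Fin m) :
    blk A c (Fin.last m) a.castSucc = 0 := by
  simp [blk, show Fin.last m = Fin.natAdd m (0 : Fin 1) from rfl]

theorem det_blk (A : Matrix (Fin m) (Fin m) F) (c : F) : (blk A c).det = A.det * c := by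
  simp [blk, det_fromBlocks_zero₂₁]

theorem blk_inj {A B : Matrix (Fin m) (Fin m) F} {c d : F} (h : blk A c = blk B d) : A = B ∧ c = d := by
  constructor
  · ext a b
    have := congrArg (fun M : Matrix (Fin (m + 1)) (Fin (m + 1)) F => M a.castSucc b.castSucc) h
    simpa [blk_castSucc] using this
  · have := congrArg (fun M : Matrix (Fin (m + 1)) (Fin (m + 1)) F => M (Fin.last m) (Fin.last m)) h
    simpa [blk_last] using this

/-- the involution `diag(-1, ..., -1, 1)` -/
def tmat (F : Type*) [Field F] (m : ℕ) : Matrix (Fin (m + 1)) (Fin (m + 1)) F :=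
  blk (-1 : Matrix (Fin m) (Fin m) F) 1

theorem tmat_eq : tmat F m =
    Matrix.diagonal (fun i : Fin (m + 1) => if (i : ℕ) + 1 = m + 1 then (1 : F) else -1) := by
  ext i j
  induction i using Fin.lastCases with
  | last =>
    induction j using Fin.lastCases with
    | last => simp [tmat, blk_last]
    | cast b => simp [tmat, blk_last_castSucc, Matrix.diagonal_apply_ne _ (Fin.castSucc_ne_last b).symm]
  | cast a =>
    induction j using Fin.lastCases with
    | last => simp [tmat, blk_castSucc_last, Matrix.diagonal_apply_ne _ (Fin.castSucc_ne_last a)]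
    | cast b =>
      by_cases hab : a = b
      · subst hab
        simp [tmat, blk_castSucc, a.isLt.ne]
      · simp [tmat, blk_castSucc, hab, Matrix.diagonal_apply_ne _
          (fun e => hab (Fin.castSucc_injective m e))]

/-- commuting with `t` means block diagonal -/
theorem exists_blk_of_comm (h2 : (2 : F) ≠ 0) {M : Matrix (Fin (m + 1)) (Fin (m + 1)) F}
    (h : M * tmat F m = tmat F m * M) :
    ∃ (A : Matrix (Fin m) (Fin m) F) (c : F), M = blk A c := by
  refine ⟨Matrix.of fun a b => M a.castSucc b.castSucc, M (Fin.last m) (Fin.last m), ?_⟩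
  have hne : (1 : F) ≠ -1 := fun e => h2 (by linear_combination e)
  rw [tmat_eq] at h
  have key : ∀ i j : Fin (m + 1), ((i : ℕ) + 1 = m + 1) ≠ ((j : ℕ) + 1 = m + 1) → M i j = 0 := by
    intro i j hij
    have he := congrArg (fun N : Matrix (Fin (m + 1)) (Fin (m + 1)) F => N i j) h
    simp only [Matrix.mul_diagonal, Matrix.diagonal_mul] at he
    by_cases hi : (i : ℕ) + 1 = m + 1 <;> by_cases hj : (j : ℕ) + 1 = m + 1
    · exact absurd (propext ⟨fun _ => hj, fun _ => hi⟩) hij
    · rw [if_pos hi, if_neg hj, one_mul, mul_neg_one] at he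
      by_contra hM
      exact hM (mul_left_cancel₀ h2 (by linear_combination -he : (2 : F) * M i j = 2 * 0))
    · rw [if_neg hi, if_pos hj, mul_one, neg_one_mul] at he
      by_contra hM
      exact hM (mul_left_cancel₀ h2 (by linear_combination he : (2 : F) * M i j = 2 * 0))
    · exact absurd (propext ⟨fun e => absurd e hi, fun e => absurd e hj⟩) hij
  ext i j
  induction i using Fin.lastCases with
  | last =>
    induction j using Fin.lastCases with
    | last => rw [blk_last]
    | cast b =>
      rw [blk_last_castSucc]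
      exact key _ _ (by simp [b.isLt.ne])
  | cast a =>
    induction j using Fin.lastCases with
    | last =>
      rw [blk_castSucc_last]
      exact key _ _ (by simp [a.isLt.ne])
    | cast b => rw [blk_castSucc]; rfl

/-- `SL_m` is quasisimple -/
theorem isQuasisimple_SL [Finite F] (hm : 2 ≤ m) (hF : m = 2 → 4 ≤ Nat.card F) :
    Cfsg.IsQuasisimple (SpecialLinearGroup (Fin m) F) :=
  ⟨⟨GL.SL_commutator_eq_top m hm fun h => GL.exists_sq_ne_one_of_four_le_card (hF h)⟩,
    GL.PSL_isSimpleGroup m hm hF⟩

/-- `A ↦ diag(A, 1)` into `SL` -/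
def toSL : SpecialLinearGroup (Fin m) F →* SpecialLinearGroup (Fin (m + 1)) F where
  toFun A := ⟨blk (A : Matrix (Fin m) (Fin m) F) 1, by rw [det_blk, A.det_coe, one_mul]⟩
  map_one' := Subtype.ext (by simp [blk_one])
  map_mul' A B := Subtype.ext (by
    show blk ((A : Matrix (Fin m) (Fin m) F) * (B : Matrix (Fin m) (Fin m) F)) 1 =
      blk (A : Matrix (Fin m) (Fin m) F) 1 * blk (B : Matrix (Fin m) (Fin m) F) 1
    rw [← blk_mul, mul_one])

theorem toSL_injective : Function.Injective (toSL (F := F) (m := m)) := fun A B h =>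
  Subtype.ext (blk_inj (congrArg Subtype.val h)).1

/-- `A ↦ diag(A, 1)` into `GL` -/
def toGL : SpecialLinearGroup (Fin m) F →* GeneralLinearGroup (Fin (m + 1)) F :=
  (SpecialLinearGroup.toGL (n := Fin (m + 1))).comp toSL

theorem toGL_injective : Function.Injective (toGL (F := F) (m := m)) :=
  SpecialLinearGroup.toGL_injective.comp toSL_injective

theorem coe_toGL (A : SpecialLinearGroup (Fin m) F) :
    (toGL A : Matrix (Fin (m + 1)) (Fin (m + 1)) F) = blk (A : Matrix (Fin m) (Fin m) F) 1 := rfl

theorem tmat_comm_blk (A : Matrix (Fin m) (Fin m) F) (c : F) :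
    blk A c * tmat F m = tmat F m * blk A c := by
  rw [tmat, ← blk_mul, ← blk_mul]
  simp

theorem quasisimple_range [Finite F] (hm : 2 ≤ m) (hF : m = 2 → 4 ≤ Nat.card F) {G : Type*} [Group G]
    (f : SpecialLinearGroup (Fin m) F →* G) (hf : Function.Injective f) :
    Cfsg.IsQuasisimple f.range :=
  (Components.isQuasisimple_congr (MonoidHom.ofInjective hf)).mp (isQuasisimple_SL hm hF)

end Cfsg.Agent.DiagBlock
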